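import Groth.Prelude.Def_KZero2
import Groth.Agent.Lib.TriCat.Coproduct

/-! # Classes in K₀ of a pretriangulated category -/

universe v u

open CategoryTheory CategoryTheory.Limits CategoryTheory.Pretriangulated

namespace GrothLib.KZeroTri

variable {C : Type u} [Category.{v} C] [Preadditive C] [HasZeroObject C] [HasShift C ℤ]
  [∀ n : ℤ, (shiftFunctor C n).Additive] [Pretriangulated C]

open KZero

theorem clTri_add {T : Triangle C} (hT : T ∈ distTriang C) :
    clTri T.obj₂ = clTri T.obj₁ + clTri T.obj₃ := by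
  rw [← sub_eq_zero]
  have h : QuotientAddGroup.mk (s := relTr (⊤ : ObjectProperty C))
      (FreeAbelianGroup.of ⟨T.obj₂, trivial⟩ - FreeAbelianGroup.of ⟨T.obj₁, trivial⟩ -
        FreeAbelianGroup.of ⟨T.obj₃, trivial⟩) = 0 :=
    (QuotientAddGroup.eq_zero_iff _).2
      (AddSubgroup.subset_closure ⟨T, trivial, trivial, trivial, hT, rfl⟩)
  rw [QuotientAddGroup.mk_sub, QuotientAddGroup.mk_sub] at h
  unfold clTri
  rw [← h]
  abel

theorem clTri_isZero {Z : C} (hZ : IsZero Z) : clTri Z = 0 := by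
  have h := clTri_add (T := Triangle.mk (𝟙 Z) (0 : Z ⟶ Z) 0)
    (isomorphic_distinguished _ (contractible_distinguished Z) _
      (Triangle.isoMk _ _ (Iso.refl _) (Iso.refl _) hZ.isoZero rfl (hZ.eq_of_src _ _)
        (hZ.eq_of_src _ _)))
  change clTri Z = clTri Z + clTri Z at h
  exact left_eq_add.mp h

theorem clTri_iso {X Y : C} (e : X ≅ Y) : clTri X = clTri Y := by
  obtain ⟨Z, hZ⟩ := HasZeroObject.zero (C := C)
  have h := clTri_add (T := Triangle.mk e.hom (0 : Y ⟶ Z) 0)
    (isomorphic_distinguished _ (contractible_distinguished X) _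
      (Triangle.isoMk _ _ (Iso.refl _) e.symm hZ.isoZero (e.hom_inv_id.trans (Category.comp_id _).symm)
        ((isZero_zero C).eq_of_tgt _ _) (hZ.eq_of_src _ _)))
  change clTri Y = clTri X + clTri Z at h
  rw [h, clTri_isZero hZ, add_zero]

theorem clTri_shift_one (X : C) : clTri (X⟦(1 : ℤ)⟧) = -clTri X := by
  have h := clTri_add (rot_of_distTriang _ (contractible_distinguished X))
  change clTri _ = clTri X + clTri (X⟦(1 : ℤ)⟧) at h
  rw [show clTri (contractibleTriangle X).rotate.obj₂ = 0 from clTri_isZero (isZero_zero C)] at h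
  exact (neg_eq_of_add_eq_zero_right h.symm).symm

theorem clTri_shift_add_two (X : C) (m : ℤ) : clTri (X⟦m + 1 + 1⟧) = clTri (X⟦m⟧) := by
  rw [clTri_iso ((shiftFunctorAdd C (m + 1) 1).app X)]
  refine (clTri_shift_one _).trans ?_
  rw [clTri_iso ((shiftFunctorAdd C m 1).app X)]
  exact (congrArg Neg.neg (clTri_shift_one _)).trans (neg_neg _)

theorem clTri_shift_even (X : C) (k : ℤ) : clTri (X⟦2 * k⟧) = clTri X := by
  induction k using Int.induction_on with
  | zero => exact clTri_iso ((shiftFunctorZero C ℤ).app X)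
  | succ i ih =>
    rw [show 2 * ((i : ℤ) + 1) = 2 * (i : ℤ) + 1 + 1 by omega, clTri_shift_add_two, ih]
  | pred i ih =>
    rw [← ih, show 2 * (-(i : ℤ)) = 2 * (-(i : ℤ) - 1) + 1 + 1 by omega, clTri_shift_add_two]

theorem clTri_biprod (X Y : C) : clTri (X ⊞ Y) = clTri X + clTri Y :=
  clTri_add (binaryBiproductTriangle_distinguished X Y)

end GrothLib.KZeroTri
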